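import Groth.Prelude.Def_W4c3severiratdpLat
import Mathlib.Data.List.OfFn
import Mathlib.Data.List.Nodup
import Mathlib.Data.Fin.Tuple.Sort
import Mathlib.GroupTheory.Perm.Fin
import Mathlib.Tactic.Linarith
import Mathlib.Tactic.Ring
import Mathlib.Tactic.Abel
import Mathlib.Tactic.NormNum
import Mathlib.Algebra.Order.Chebyshev
import Mathlib.Tactic.IntervalCases

/-! Computable tools for the lattices `DP δ`: enumeration of classes and reflections in roots. -/

set_option autoImplicit false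

namespace Groth.Agent.DPLat

open W4c3severiratdp

/-- dot product of lists -/
def dot : List ℤ → List ℤ → ℤ
  | a :: as, b :: bs => a * b + dot as bs
  | _, _ => 0

/-- the form on lists -/
def bil : List ℤ → List ℤ → ℤ
  | a :: as, b :: bs => a * b - dot as bs
  | _, _ => 0

/-- reflection on lists -/
def refl (r v : List ℤ) : List ℤ :=
  let c := bil v r
  List.zipWith (fun x y => x + c * y) v r

/-- coordinates of a vector -/
def vec {δ : ℕ} (v : DP δ) : List ℤ := List.ofFn v

theorem vec_injective {δ : ℕ} : Function.Injective (vec (δ := δ)) := List.ofFn_injective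

theorem dot_ofFn : ∀ {n : ℕ} (f g : Fin n → ℤ), dot (List.ofFn f) (List.ofFn g) = ∑ i, f i * g i
  | 0, f, g => by simp [dot]
  | n + 1, f, g => by rw [List.ofFn_succ, List.ofFn_succ, dot, dot_ofFn, Fin.sum_univ_succ]

theorem bil_vec {δ : ℕ} (v w : DP δ) : bil (vec v) (vec w) = form v w := by
  rw [vec, vec, List.ofFn_succ, List.ofFn_succ, bil, dot_ofFn, form]

theorem form_comm {δ : ℕ} (v w : DP δ) : form v w = form w v := by
  unfold form
  rw [mul_comm]
  simp only [mul_comm (v (Fin.succ _))]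

theorem form_add_left {δ : ℕ} (u v w : DP δ) : form (u + v) w = form u w + form v w := by
  simp only [form, Pi.add_apply, add_mul, Finset.sum_add_distrib]
  ring

theorem form_smul_left {δ : ℕ} (c : ℤ) (v w : DP δ) : form (c • v) w = c * form v w := by
  simp only [form, Pi.smul_apply, smul_eq_mul, mul_assoc, ← Finset.mul_sum]
  ring

theorem form_add_right {δ : ℕ} (u v w : DP δ) : form w (u + v) = form w u + form w v := by
  rw [form_comm, form_add_left, form_comm u, form_comm v]

theorem form_smul_right {δ : ℕ} (c : ℤ) (v w : DP δ) : form w (c • v) = c * form w v := by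
  rw [form_comm, form_smul_left, form_comm v]

theorem isWeyl_refl {δ : ℕ} : IsWeyl (LinearEquiv.refl ℤ (DP δ)) := ⟨fun _ _ => rfl, rfl⟩

theorem isWeyl_trans {δ : ℕ} {g h : DP δ ≃ₗ[ℤ] DP δ} (hg : IsWeyl g) (hh : IsWeyl h) : IsWeyl (g.trans h) :=
  ⟨fun v w => by simp only [LinearEquiv.trans_apply, hh.1, hg.1], by simp [hg.2, hh.2]⟩

theorem isWeyl_symm {δ : ℕ} {g : DP δ ≃ₗ[ℤ] DP δ} (hg : IsWeyl g) : IsWeyl g.symm :=
  ⟨fun v w => by rw [← hg.1 (g.symm v), g.apply_symm_apply, g.apply_symm_apply],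
    by rw [LinearEquiv.symm_apply_eq, hg.2]⟩

/-- a root -/
def IsRoot {δ : ℕ} (r : DP δ) : Prop := form r r = -2 ∧ form (canon δ) r = 0

/-- the reflection in a root -/
def reflection {δ : ℕ} (r : DP δ) (hr : IsRoot r) : DP δ ≃ₗ[ℤ] DP δ where
  toFun v := v + form v r • r
  map_add' u v := by rw [form_add_left, add_smul]; abel
  map_smul' c v := by rw [form_smul_left, RingHom.id_apply, smul_add, smul_smul]
  invFun v := v + form v r • r
  left_inv v := by
    show (v + form v r • r) + form (v + form v r • r) r • r = v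
    rw [form_add_left, form_smul_left, hr.1, show form v r + form v r * -2 = -form v r by ring, neg_smul,
      add_neg_cancel_right]
  right_inv v := by
    show (v + form v r • r) + form (v + form v r • r) r • r = v
    rw [form_add_left, form_smul_left, hr.1, show form v r + form v r * -2 = -form v r by ring, neg_smul,
      add_neg_cancel_right]

theorem reflection_apply {δ : ℕ} (r : DP δ) (hr : IsRoot r) (v : DP δ) : reflection r hr v = v + form v r • r := rfl

theorem isWeyl_reflection {δ : ℕ} (r : DP δ) (hr : IsRoot r) : IsWeyl (reflection r hr) := by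
  refine ⟨fun v w => ?_, ?_⟩
  · simp only [reflection_apply, form_add_left, form_add_right, form_smul_left, form_smul_right, hr.1, form_comm r w]
    ring
  · rw [reflection_apply, hr.2, zero_smul, add_zero]

theorem reflection_fix {δ : ℕ} (r : DP δ) (hr : IsRoot r) (x : DP δ) (hx : form x r = 0) : reflection r hr x = x := by
  rw [reflection_apply, hx, zero_smul, add_zero]

theorem refl_vec {δ : ℕ} (r : DP δ) (hr : IsRoot r) (v : DP δ) : refl (vec r) (vec v) = vec (reflection r hr v) := by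
  simp only [refl, bil_vec]
  refine List.ext_getElem (by simp [vec]) fun i h₁ h₂ => ?_
  simp only [vec, List.getElem_zipWith, List.getElem_ofFn, reflection_apply, Pi.add_apply, Pi.smul_apply, smul_eq_mul]

/-- greedy reduction of the head, carrying the tail along -/
def red (S : List (List ℤ)) : ℕ → List (List ℤ) → List (List ℤ)
  | n + 1, v :: vs =>
    match S.find? (fun r => decide (bil v r < 0)) with
    | none => v :: vs
    | some r => red S n ((v :: vs).map (refl r))
  | _, vs => vs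

/-- the roots in `S` orthogonal to all of `fix` -/
def perp (S : List (List ℤ)) (fix : List (List ℤ)) : List (List ℤ) :=
  S.filter fun r => fix.all fun x => bil x r == 0

/-- validity of a list of roots -/
def rootsOK (δ : ℕ) (S : List (List ℤ)) : Bool :=
  S.all fun r => r.length == δ + 1 && bil r r == -2 && bil (vec (canon δ)) r == 0

theorem exists_vec_of_length {δ : ℕ} {r : List ℤ} (h : r.length = δ + 1) : ∃ v : DP δ, vec v = r :=
  ⟨fun i => r[i.1]'(by omega), List.ext_getElem (by simp [vec, h]) fun i _ _ => by simp only [vec, List.getElem_ofFn]⟩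

theorem red_spec {δ : ℕ} {S : List (List ℤ)} (hS : rootsOK δ S = true) (fix : List (DP δ)) :
    ∀ (n : ℕ) (vs : List (DP δ)), ∃ g : DP δ ≃ₗ[ℤ] DP δ, IsWeyl g ∧ (∀ x ∈ fix, g x = x) ∧
      red (perp S (fix.map vec)) n (vs.map vec) = (vs.map g).map vec
  | 0, vs => ⟨LinearEquiv.refl ℤ _, isWeyl_refl, fun _ _ => rfl, by
      cases vs <;> simp [red, Function.comp_def]⟩
  | n + 1, [] => ⟨LinearEquiv.refl ℤ _, isWeyl_refl, fun _ _ => rfl, by simp [red]⟩
  | n + 1, v :: vs => by
    simp only [List.map_cons, red]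
    cases hf : (perp S (fix.map vec)).find? (fun r => decide (bil (vec v) r < 0)) with
    | none => exact ⟨LinearEquiv.refl ℤ _, isWeyl_refl, fun _ _ => rfl, by simp [Function.comp_def]⟩
    | some r =>
      have hmem := List.mem_of_find?_eq_some hf
      simp only [perp, List.mem_filter, List.all_eq_true, List.mem_map, beq_iff_eq, forall_exists_index, and_imp,
        forall_apply_eq_imp_iff₂] at hmem
      obtain ⟨hrS, hperp⟩ := hmem
      have := List.all_eq_true.1 hS r hrS
      simp only [Bool.and_eq_true, beq_iff_eq] at this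
      obtain ⟨⟨hlen, hrr⟩, hrK⟩ := this
      obtain ⟨r, rfl⟩ := exists_vec_of_length hlen
      rw [bil_vec] at hrr hrK
      have hr : IsRoot r := ⟨hrr, hrK⟩
      obtain ⟨g, hg, hfix, heq⟩ := red_spec hS fix n ((v :: vs).map (reflection r hr))
      refine ⟨(reflection r hr).trans g, isWeyl_trans (isWeyl_reflection r hr) hg, fun x hx => ?_, ?_⟩
      · rw [LinearEquiv.trans_apply, reflection_fix r hr x (by rw [← bil_vec]; exact hperp x hx), hfix x hx]
      · refine Eq.trans ?_ (heq.trans ?_)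
        · congr 1
          simp [refl_vec r hr, show refl (vec r) ∘ vec = vec ∘ ⇑(reflection r hr) from funext (refl_vec r hr)]
        · simp

/-- integers in `[-11, 11]` -/
def window : List ℤ := (List.range 23).map fun k : ℕ => (k : ℤ) - 11

theorem mem_window {b : ℤ} : b ∈ window ↔ -11 ≤ b ∧ b ≤ 11 := by
  simp only [window, List.mem_map, List.mem_range]
  constructor
  · rintro ⟨k, hk, rfl⟩; omega
  · rintro ⟨h₁, h₂⟩; exact ⟨(b + 11).toNat, by omega, by omega⟩

/-- all integer lists of length `n` with given sum and sum of squares -/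
def enum : ℕ → ℤ → ℤ → List (List ℤ)
  | 0, s, q => if s = 0 ∧ q = 0 then [[]] else []
  | n + 1, s, q =>
    if q < 0 ∨ ((n : ℤ) + 1) * q < s * s then []
    else (window.filter fun b => decide (b * b ≤ q)).flatMap fun b => (enum n (s - b) (q - b * b)).map (b :: ·)

theorem ofFn_mem_enum : ∀ {n : ℕ} (f : Fin n → ℤ) (s q : ℤ), q < 144 → ∑ i, f i = s → ∑ i, f i * f i = q →
    List.ofFn f ∈ enum n s q
  | 0, f, s, q, _, hs, hq => by simp [enum, ← hs, ← hq]
  | n + 1, f, s, q, hlt, hs, hq => by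
    have h0 : 0 ≤ q := hq ▸ Finset.sum_nonneg fun i _ => mul_self_nonneg _
    have hcs : s * s ≤ ((n : ℤ) + 1) * q := by
      have h := sq_sum_le_card_mul_sum_sq (s := Finset.univ) (f := f)
      simp only [Finset.card_univ, Fintype.card_fin, pow_two, hs, hq] at h
      push_cast at h
      exact h
    rw [enum, if_neg (by omega)]
    rw [Fin.sum_univ_succ] at hs hq
    have hnn : 0 ≤ ∑ i : Fin n, f i.succ * f i.succ := Finset.sum_nonneg fun i _ => mul_self_nonneg _
    have hb : f 0 * f 0 ≤ q := by omega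
    have hw : f 0 ∈ window := by
      rw [mem_window]
      constructor <;> nlinarith
    refine List.mem_flatMap.2 ⟨f 0, List.mem_filter.2 ⟨hw, decide_eq_true hb⟩, List.mem_map.2 ⟨List.ofFn fun i => f i.succ, ?_, ?_⟩⟩
    · exact ofFn_mem_enum _ _ _ (by nlinarith) (by omega) (by omega)
    · rw [List.ofFn_succ]

theorem enum_sound : ∀ (n : ℕ) (s q : ℤ) (l : List ℤ), l ∈ enum n s q → ∃ f : Fin n → ℤ, List.ofFn f = l ∧ ∑ i, f i = s ∧ ∑ i, f i * f i = q
  | 0, s, q, l, h => by
    simp only [enum] at h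
    split_ifs at h with hc
    · simp only [List.mem_singleton] at h
      exact ⟨Fin.elim0, by simp [h], by simp [hc.1], by simp [hc.2]⟩
    · simp at h
  | n + 1, s, q, l, h => by
    simp only [enum] at h
    split_ifs at h
    · simp at h
    · obtain ⟨b, -, l', hl', rfl⟩ : ∃ b, b ∈ window.filter (fun b => decide (b * b ≤ q)) ∧ ∃ l' ∈ enum n (s - b) (q - b * b), b :: l' = l := by
        obtain ⟨b, hb, hl⟩ := List.mem_flatMap.1 h
        exact ⟨b, hb, List.mem_map.1 hl⟩
      obtain ⟨f, rfl, hs, hq⟩ := enum_sound n _ _ _ hl'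
      exact ⟨Fin.cons b f, by simp [List.ofFn_succ], by rw [Fin.sum_univ_succ]; simp [hs],
        by rw [Fin.sum_univ_succ]; simp [hq]⟩

theorem nodup_window : window.Nodup := List.Nodup.map (fun a b h => by simpa using h) List.nodup_range

theorem nodup_enum : ∀ (n : ℕ) (s q : ℤ), (enum n s q).Nodup
  | 0, s, q => by simp only [enum]; split_ifs <;> simp
  | n + 1, s, q => by
    simp only [enum]
    split_ifs
    · simp
    · rw [List.nodup_flatMap]
      refine ⟨fun b _ => (nodup_enum n _ _).map (fun a c h => (List.cons.inj h).2), ?_⟩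
      refine ((nodup_window.filter _).pairwise_of_forall_ne ?_)
      intro b _ c _ hbc l hb hc
      simp only [List.mem_map] at hb hc
      obtain ⟨_, _, rfl⟩ := hb
      obtain ⟨_, _, h⟩ := hc
      exact hbc (List.cons.inj h).1.symm

/-- the values of `a` to be searched -/
def degrees : List ℤ := (List.range 13).map fun k : ℕ => (k : ℤ) - 1

theorem mem_degrees {a : ℤ} : a ∈ degrees ↔ -1 ≤ a ∧ a ≤ 11 := by
  simp only [degrees, List.mem_map, List.mem_range]
  constructor
  · rintro ⟨k, hk, rfl⟩; omega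
  · rintro ⟨h₁, h₂⟩; exact ⟨(a + 1).toNat, by omega, by omega⟩

/-- all classes with `v · v = sq` and `K · v = kv` and degree in `[-1, 11]` -/
def classes (δ : ℕ) (sq kv : ℤ) : List (List ℤ) :=
  degrees.flatMap fun a => (enum δ (3 * a + kv) (a * a - sq)).map (a :: ·)

theorem form_canon {δ : ℕ} (v : DP δ) : form (canon δ) v = -3 * v 0 + ∑ i : Fin δ, v i.succ := by
  simp [form, canon]

theorem vec_mem_classes {δ : ℕ} {sq kv : ℤ} (hsq : -1 ≤ sq) {v : DP δ} (h₁ : form v v = sq) (h₂ : form (canon δ) v = kv)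
    (ha : -1 ≤ v 0 ∧ v 0 ≤ 11) : vec v ∈ classes δ sq kv := by
  rw [form_canon] at h₂
  simp only [form] at h₁
  refine List.mem_flatMap.2 ⟨v 0, mem_degrees.2 ha, List.mem_map.2 ⟨List.ofFn fun i => v i.succ, ?_, ?_⟩⟩
  · refine ofFn_mem_enum _ _ _ ?_ (by omega) (by omega)
    nlinarith [ha.1, ha.2]
  · rw [vec, List.ofFn_succ]

theorem classes_sound {δ : ℕ} {sq kv : ℤ} {l : List ℤ} (h : l ∈ classes δ sq kv) :
    ∃ v : DP δ, vec v = l ∧ form v v = sq ∧ form (canon δ) v = kv := by
  obtain ⟨a, -, hl⟩ := List.mem_flatMap.1 h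
  obtain ⟨l', hl', rfl⟩ := List.mem_map.1 hl
  obtain ⟨f, rfl, hs, hq⟩ := enum_sound _ _ _ _ hl'
  refine ⟨Fin.cons a f, by simp [vec, List.ofFn_succ], ?_, ?_⟩
  · simp [form, hq]
  · rw [form_canon]
    simp [hs]

theorem nodup_classes (δ : ℕ) (sq kv : ℤ) : (classes δ sq kv).Nodup := by
  rw [classes, List.nodup_flatMap]
  refine ⟨fun a _ => (nodup_enum _ _ _).map (fun x y h => (List.cons.inj h).2), ?_⟩
  refine ((List.Nodup.map (fun a b h => by simpa using h) List.nodup_range).pairwise_of_forall_ne ?_)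
  intro b _ c _ hbc l hb hc
  simp only [List.mem_map] at hb hc
  obtain ⟨_, _, rfl⟩ := hb
  obtain ⟨_, _, h⟩ := hc
  exact hbc (List.cons.inj h).1.symm

theorem bound_conic {δ : ℕ} (hδ : δ ≤ 8) {v : DP δ} (h : IsConic v) : -1 ≤ v 0 ∧ v 0 ≤ 11 := by
  obtain ⟨h₁, h₂⟩ := h
  rw [form_canon] at h₂
  simp only [form] at h₁
  have hc := sq_sum_le_card_mul_sum_sq (s := Finset.univ) (f := fun i : Fin δ => v i.succ)
  simp only [Finset.card_univ, Fintype.card_fin, pow_two] at hc
  have hδ' : (δ : ℤ) ≤ 8 := by exact_mod_cast hδ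
  have hq : 0 ≤ ∑ i : Fin δ, v i.succ * v i.succ := Finset.sum_nonneg fun i _ => mul_self_nonneg _
  have : (3 * v 0 - 2) * (3 * v 0 - 2) ≤ 8 * (v 0 * v 0) := by nlinarith
  constructor <;> nlinarith

theorem bound_exc {δ : ℕ} (hδ : δ ≤ 8) {v : DP δ} (h : IsExc v) : -1 ≤ v 0 ∧ v 0 ≤ 11 := by
  obtain ⟨h₁, h₂⟩ := h
  rw [form_canon] at h₂
  simp only [form] at h₁
  have hc := sq_sum_le_card_mul_sum_sq (s := Finset.univ) (f := fun i : Fin δ => v i.succ)
  simp only [Finset.card_univ, Fintype.card_fin, pow_two] at hc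
  have hδ' : (δ : ℤ) ≤ 8 := by exact_mod_cast hδ
  have hq : 0 ≤ ∑ i : Fin δ, v i.succ * v i.succ := Finset.sum_nonneg fun i _ => mul_self_nonneg _
  have : (3 * v 0 - 1) * (3 * v 0 - 1) ≤ 8 * (v 0 * v 0 + 1) := by nlinarith
  constructor <;> nlinarith

theorem vec_mem_conics {δ : ℕ} (hδ : δ ≤ 8) {v : DP δ} (h : IsConic v) : vec v ∈ classes δ 0 (-2) :=
  vec_mem_classes (by norm_num) h.1 h.2 (bound_conic hδ h)

theorem vec_mem_exc {δ : ℕ} (hδ : δ ≤ 8) {v : DP δ} (h : IsExc v) : vec v ∈ classes δ (-1) (-1) :=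
  vec_mem_classes le_rfl h.1 h.2 (bound_exc hδ h)

theorem ncard_conic {δ : ℕ} (hδ : δ ≤ 8) : {v : DP δ | IsConic v}.ncard = (classes δ 0 (-2)).length := by
  classical
  rw [← List.toFinset_card_of_nodup (nodup_classes δ 0 (-2)), ← Set.ncard_coe_finset]
  refine Set.ncard_congr (fun v _ => vec v) (fun v hv => List.mem_toFinset.2 (vec_mem_conics hδ hv))
    (fun v w _ _ h => vec_injective h) fun l hl => ?_
  obtain ⟨v, rfl, h₁, h₂⟩ := classes_sound (List.mem_toFinset.1 hl)
  exact ⟨v, ⟨h₁, h₂⟩, rfl⟩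

/-- like `enum`, descending after the first `free` entries -/
def enumD : ℕ → ℕ → ℤ → ℤ → ℤ → List (List ℤ)
  | 0, _, _, s, q => if s = 0 ∧ q = 0 then [[]] else []
  | n + 1, free, top, s, q =>
    if q < 0 ∨ ((n : ℤ) + 1) * q < s * s then []
    else (window.filter fun b => decide (b ≤ top) && decide (b * b ≤ q)).flatMap fun b =>
      (enumD n (free - 1) (if free = 0 then b else 11) (s - b) (q - b * b)).map (b :: ·)

theorem ofFn_mem_enumD : ∀ {n : ℕ} (free : ℕ) (top : ℤ) (f : Fin n → ℤ) (s q : ℤ), q < 144 →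
    ∑ i, f i = s → ∑ i, f i * f i = q → (∀ i, f i ≤ 11) → (∀ h : 0 < n, f ⟨0, h⟩ ≤ top) →
    (∀ i j : Fin n, free ≤ i.1 → i ≤ j → f j ≤ f i) → List.ofFn f ∈ enumD n free top s q
  | 0, free, top, f, s, q, _, hs, hq, _, _, _ => by simp [enumD, ← hs, ← hq]
  | n + 1, free, top, f, s, q, hlt, hs, hq, h11, htop, hdesc => by
    have h0 : 0 ≤ q := hq ▸ Finset.sum_nonneg fun i _ => mul_self_nonneg _
    have hcs : s * s ≤ ((n : ℤ) + 1) * q := by
      have h := sq_sum_le_card_mul_sum_sq (s := Finset.univ) (f := f)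
      simp only [Finset.card_univ, Fintype.card_fin, pow_two, hs, hq] at h
      push_cast at h
      exact h
    rw [enumD, if_neg (by omega)]
    rw [Fin.sum_univ_succ] at hs hq
    have hnn : 0 ≤ ∑ i : Fin n, f i.succ * f i.succ := Finset.sum_nonneg fun i _ => mul_self_nonneg _
    have hb : f 0 * f 0 ≤ q := by omega
    have hw : f 0 ∈ window := mem_window.2 ⟨by nlinarith, h11 0⟩
    have ht : f 0 ≤ top := htop n.succ_pos
    refine List.mem_flatMap.2 ⟨f 0, List.mem_filter.2 ⟨hw, by simp [ht, hb]⟩,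
      List.mem_map.2 ⟨List.ofFn fun i => f i.succ, ?_, ?_⟩⟩
    · refine ofFn_mem_enumD _ _ _ _ _ (by nlinarith) (by omega) (by omega) (fun i => h11 _) (fun h => ?_) fun a b ha hab => ?_
      · split_ifs with hf
        · exact hdesc 0 (Fin.succ ⟨0, h⟩) (by omega) (Fin.zero_le _)
        · exact h11 _
      · exact hdesc a.succ b.succ (by simp only [Fin.val_succ]; omega) (Fin.succ_le_succ_iff.2 hab)
    · rw [List.ofFn_succ]

/-- the classes of `classes`, descending after the first `free` coordinates -/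
def classesD (δ free : ℕ) (sq kv : ℤ) : List (List ℤ) :=
  degrees.flatMap fun a => (enumD δ free 11 (3 * a + kv) (a * a - sq)).map (a :: ·)

theorem vec_mem_classesD {δ free : ℕ} {sq kv : ℤ} (hsq : -1 ≤ sq) {v : DP δ} (h₁ : form v v = sq)
    (h₂ : form (canon δ) v = kv) (ha : -1 ≤ v 0 ∧ v 0 ≤ 11)
    (hdesc : ∀ i j : Fin δ, free ≤ i.1 → i ≤ j → v j.succ ≤ v i.succ) : vec v ∈ classesD δ free sq kv := by
  rw [form_canon] at h₂
  simp only [form] at h₁
  have h11 : ∀ i : Fin δ, v i.succ ≤ 11 := fun i => by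
    have h := Finset.single_le_sum (f := fun j : Fin δ => v j.succ * v j.succ) (fun j _ => mul_self_nonneg _)
      (Finset.mem_univ i)
    nlinarith [ha.1, ha.2]
  refine List.mem_flatMap.2 ⟨v 0, mem_degrees.2 ha, List.mem_map.2 ⟨List.ofFn fun i => v i.succ, ?_, ?_⟩⟩
  · exact ofFn_mem_enumD _ _ _ _ _ (by nlinarith [ha.1, ha.2]) (by omega) (by omega) h11 (fun h => h11 _) hdesc
  · rw [vec, List.ofFn_succ]

/-- permutation of the exceptional coordinates -/
def permEquiv {δ : ℕ} (σ : Equiv.Perm (Fin δ)) : DP δ ≃ₗ[ℤ] DP δ :=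
  LinearEquiv.funCongrLeft ℤ ℤ (Equiv.Perm.decomposeFin.symm ((0 : Fin (δ + 1)), σ))

theorem permEquiv_zero {δ : ℕ} (σ : Equiv.Perm (Fin δ)) (v : DP δ) : permEquiv σ v 0 = v 0 := by
  simp [permEquiv, LinearEquiv.funCongrLeft]

theorem permEquiv_succ {δ : ℕ} (σ : Equiv.Perm (Fin δ)) (v : DP δ) (i : Fin δ) :
    permEquiv σ v i.succ = v (σ i).succ := by
  simp [permEquiv, LinearEquiv.funCongrLeft]

theorem isWeyl_permEquiv {δ : ℕ} (σ : Equiv.Perm (Fin δ)) : IsWeyl (permEquiv σ) := by
  refine ⟨fun v w => ?_, ?_⟩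
  · simp only [form, permEquiv_zero, permEquiv_succ]
    rw [Equiv.sum_comp σ (fun i => v i.succ * w i.succ)]
  · funext i
    cases i using Fin.cases with
    | zero => rw [permEquiv_zero]
    | succ i => rw [permEquiv_succ]; rfl

theorem exists_sorted : ∀ (m : ℕ) {n : ℕ} (f : Fin n → ℤ), ∃ σ : Equiv.Perm (Fin n),
    (∀ i : Fin n, i.1 < m → σ i = i) ∧ ∀ i j : Fin n, m ≤ i.1 → i ≤ j → f (σ j) ≤ f (σ i)
  | 0, n, f => ⟨Tuple.sort fun i => -f i, fun i h => absurd h (Nat.not_lt_zero _), fun i j _ hij => by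
      have := Tuple.monotone_sort (fun i => -f i) hij
      simp only [Function.comp_apply] at this
      omega⟩
  | m + 1, 0, f => ⟨1, fun i => i.elim0, fun i => i.elim0⟩
  | m + 1, n + 1, f => by
    obtain ⟨σ, h₁, h₂⟩ := exists_sorted m (fun i : Fin n => f i.succ)
    refine ⟨Equiv.Perm.decomposeFin.symm ((0 : Fin (n + 1)), σ), fun i hi => ?_, fun i j hi hij => ?_⟩
    · cases i using Fin.cases with
      | zero => simp
      | succ i => simp only [Fin.val_succ] at hi; simp [h₁ i (by omega)]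
    · cases i using Fin.cases with
      | zero => simp at hi
      | succ i =>
        cases j using Fin.cases with
        | zero => simp at hij
        | succ j =>
          simp only [Fin.val_succ] at hi
          simpa using h₂ i j (by omega) (Fin.succ_le_succ_iff.1 hij)

/-- `x` does not depend on the coordinate beyond the first `m` ones -/
def ConstAfter {δ : ℕ} (m : ℕ) (x : DP δ) : Prop := ∀ i j : Fin δ, m ≤ i.1 → m ≤ j.1 → x i.succ = x j.succ

theorem exists_sort {δ : ℕ} (m : ℕ) (v : DP δ) : ∃ g : DP δ ≃ₗ[ℤ] DP δ, IsWeyl g ∧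
    (∀ x, ConstAfter m x → g x = x) ∧ ∀ i j : Fin δ, m ≤ i.1 → i ≤ j → g v j.succ ≤ g v i.succ := by
  obtain ⟨σ, h₁, h₂⟩ := exists_sorted m (fun i : Fin δ => v i.succ)
  refine ⟨permEquiv σ, isWeyl_permEquiv σ, fun x hx => ?_, fun i j hi hij => ?_⟩
  · funext i
    cases i using Fin.cases with
    | zero => rw [permEquiv_zero]
    | succ i =>
      rw [permEquiv_succ]
      by_cases hi : i.1 < m
      · rw [h₁ i hi]
      · refine hx _ _ ?_ (by omega)
        by_contra hlt
        have := σ.injective (h₁ (σ i) (by omega))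
        exact hi (by rw [← this]; omega)
  · rw [permEquiv_succ, permEquiv_succ]
    exact h₂ i j hi hij

theorem isConic_map {δ : ℕ} {g : DP δ ≃ₗ[ℤ] DP δ} (hg : IsWeyl g) {v : DP δ} (h : IsConic v) : IsConic (g v) :=
  ⟨(hg.1 v v).trans h.1, by rw [← hg.2, hg.1]; exact h.2⟩

theorem isExc_map {δ : ℕ} {g : DP δ ≃ₗ[ℤ] DP δ} (hg : IsWeyl g) {v : DP δ} (h : IsExc v) : IsExc (g v) :=
  ⟨(hg.1 v v).trans h.1, by rw [← hg.2, hg.1]; exact h.2⟩

theorem red_one {δ : ℕ} {S : List (List ℤ)} (hS : rootsOK δ S = true) (fix : List (DP δ)) (n : ℕ) (v : DP δ) :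
    ∃ g : DP δ ≃ₗ[ℤ] DP δ, IsWeyl g ∧ (∀ x ∈ fix, g x = x) ∧
      red (perp S (fix.map vec)) n [vec v] = [vec (g v)] := by
  simpa using red_spec hS fix n [v]

theorem perp_nil (S : List (List ℤ)) : perp S [] = S := by simp [perp]

/-- transposition roots -/
def permRoots (δ : ℕ) : List (List ℤ) :=
  (List.range (δ - 1)).map fun i => (List.range (δ + 1)).map fun j =>
    if j = i + 1 then (-1 : ℤ) else if j = i + 2 then 1 else 0

/-- simple roots -/
def simpleRoots (δ : ℕ) : List (List ℤ) :=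
  permRoots δ ++ if 3 ≤ δ then [(List.range (δ + 1)).map fun j => if j ≤ 3 then (1 : ℤ) else 0] else []

/-- simple roots with the exceptional coordinates in the opposite order -/
def simpleRootsRev (δ : ℕ) : List (List ℤ) :=
  (simpleRoots δ).map fun r => r.headI :: r.tail.reverse

end Groth.Agent.DPLat
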