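import Groth.Agent.DPLat.Basic

/-! Orbits of conic classes and of pairs of conic classes. -/

set_option autoImplicit false

namespace Groth.Agent.DPLat

open W4c3severiratdp

/-- the standard conic -/
def c0 (δ : ℕ) : List ℤ := (List.range (δ + 1)).map fun j => if j ≤ 1 then (1 : ℤ) else 0

/-- normal forms of a second conic, by intersection number with the first -/
def conicRep : ℤ → List ℤ
  | 0 => [1, 1, 0, 0, 0, 0, 0, 0, 0]
  | 1 => [1, 0, 1, 0, 0, 0, 0, 0, 0]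
  | 2 => [2, 0, 1, 1, 1, 1, 0, 0, 0]
  | 3 => [3, 0, 2, 1, 1, 1, 1, 1, 0]
  | 4 => [5, 1, 2, 2, 2, 2, 2, 2, 0]
  | 5 => [5, 0, 2, 2, 2, 2, 2, 2, 1]
  | 6 => [7, 1, 3, 3, 3, 3, 2, 2, 2]
  | 7 => [8, 1, 3, 3, 3, 3, 3, 3, 3]
  | _ => [11, 3, 4, 4, 4, 4, 4, 4, 4]

/-- the other orbit with intersection number four -/
def conicRep' : List ℤ := [4, 0, 2, 2, 2, 1, 1, 1, 1]

/-- the standard conic is reached -/
def checkStd (δ : ℕ) : Bool :=
  rootsOK δ (simpleRoots δ) && (classesD δ 0 0 (-2)).all fun v => red (simpleRoots δ) 500 [v] == [c0 δ]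

/-- normal forms relative to the standard conic -/
def checkRel (δ : ℕ) : Bool :=
  (classesD δ 1 0 (-2)).all fun v =>
    let w := red (perp (simpleRoots δ) [c0 δ]) 500 [v]
    let k := bil (c0 δ) v
    w == [(conicRep k).take (δ + 1)] || (δ == 8 && k == 4 && w == [conicRep'])

theorem checkStd_all : ((List.range 9).all fun δ => δ < 2 || checkStd δ) = true := by decide +kernel

theorem checkRel_all : ((List.range 9).all fun δ => δ < 2 || checkRel δ) = true := by decide +kernel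

/-- sorted representatives of conics for `δ = 8` -/
def conicTable : List (List ℤ) :=
  [[1, 1, 0, 0, 0, 0, 0, 0, 0], [2, 1, 1, 1, 1, 0, 0, 0, 0], [3, 2, 1, 1, 1, 1, 1, 0, 0], [4, 2, 2, 2, 1, 1, 1, 1, 0],
   [4, 3, 1, 1, 1, 1, 1, 1, 1], [5, 2, 2, 2, 2, 2, 2, 1, 0], [5, 3, 2, 2, 2, 1, 1, 1, 1], [6, 3, 3, 2, 2, 2, 2, 1, 1],
   [7, 3, 3, 3, 3, 2, 2, 2, 1], [7, 4, 3, 2, 2, 2, 2, 2, 2], [8, 4, 3, 3, 3, 3, 2, 2, 2], [8, 3, 3, 3, 3, 3, 3, 3, 1],
   [9, 4, 4, 3, 3, 3, 3, 3, 2], [10, 4, 4, 4, 4, 3, 3, 3, 3], [11, 4, 4, 4, 4, 4, 4, 4, 3]]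

theorem table_complete : ((classesD 8 0 0 (-2)).all fun v => conicTable.contains v) = true := by decide +kernel

theorem table_sound : (conicTable.all fun v => v.length == 9 && bil v v == 0 && bil (vec (canon 8)) v == -2) = true := by
  decide +kernel

theorem exists_std {δ : ℕ} (h2 : 2 ≤ δ) (h8 : δ ≤ 8) {v : DP δ} (hv : IsConic v) :
    ∃ g : DP δ ≃ₗ[ℤ] DP δ, IsWeyl g ∧ vec (g v) = c0 δ := by
  have hall := List.all_eq_true.1 checkStd_all δ (List.mem_range.2 (by omega))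
  simp only [Bool.or_eq_true, decide_eq_true_eq, show ¬ δ < 2 by omega, false_or, checkStd, Bool.and_eq_true,
    List.all_eq_true, beq_iff_eq] at hall
  obtain ⟨hS, hred⟩ := hall
  obtain ⟨g₁, hg₁, -, hdesc⟩ := exists_sort 0 v
  have hv₁ := isConic_map hg₁ hv
  obtain ⟨g₂, hg₂, -, heq⟩ := red_one hS [] 500 (g₁ v)
  rw [List.map_nil, perp_nil, hred _ (vec_mem_classesD (by norm_num) hv₁.1 hv₁.2 (bound_conic h8 hv₁) hdesc)] at heq
  exact ⟨g₁.trans g₂, isWeyl_trans hg₁ hg₂, (List.cons.inj heq).1.symm⟩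

theorem exists_rel {δ : ℕ} (h2 : 2 ≤ δ) (h8 : δ ≤ 8) {c v : DP δ} (hc : vec c = c0 δ) (hv : IsConic v) :
    ∃ g : DP δ ≃ₗ[ℤ] DP δ, IsWeyl g ∧ g c = c ∧
      (vec (g v) = (conicRep (form c v)).take (δ + 1) ∨ δ = 8 ∧ form c v = 4 ∧ vec (g v) = conicRep') := by
  have hS : rootsOK δ (simpleRoots δ) = true := by
    have hall := List.all_eq_true.1 checkStd_all δ (List.mem_range.2 (by omega))
    simp only [Bool.or_eq_true, decide_eq_true_eq, show ¬ δ < 2 by omega, false_or, checkStd, Bool.and_eq_true] at hall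
    exact hall.1
  have hall := List.all_eq_true.1 checkRel_all δ (List.mem_range.2 (by omega))
  simp only [Bool.or_eq_true, decide_eq_true_eq, show ¬ δ < 2 by omega, false_or, checkRel, Bool.and_eq_true,
    List.all_eq_true, beq_iff_eq] at hall
  have hval : ∀ i : Fin δ, c i.succ = if i.1 + 1 ≤ 1 then 1 else 0 := fun i => by
    have := congrArg (fun l : List ℤ => l[i.1 + 1]?) hc
    simpa [vec, c0, List.getElem?_ofFn] using this
  have hcc : ConstAfter 1 c := fun i j hi hj => by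
    rw [hval, hval, if_neg (by omega), if_neg (by omega)]
  obtain ⟨g₁, hg₁, hfix, hdesc⟩ := exists_sort 1 v
  have hv₁ := isConic_map hg₁ hv
  obtain ⟨g₂, hg₂, hfix₂, heq⟩ := red_one hS [c] 500 (g₁ v)
  have h := hall _ (vec_mem_classesD (by norm_num) hv₁.1 hv₁.2 (bound_conic h8 hv₁) hdesc)
  rw [List.map_singleton, hc] at heq
  rw [heq, ← hc, bil_vec] at h
  have e : form c (g₁ v) = form c v := by
    conv_lhs => rw [← hfix c hcc]
    exact hg₁.1 c v
  rw [e] at h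
  refine ⟨g₁.trans g₂, isWeyl_trans hg₁ hg₂, by simp [hfix c hcc, hfix₂ c (List.mem_singleton_self c)], ?_⟩
  rcases h with h | ⟨⟨h₁, h₂⟩, h₃⟩
  · exact Or.inl (List.cons.inj h).1
  · exact Or.inr ⟨h₁, h₂, (List.cons.inj h₃).1⟩

end Groth.Agent.DPLat
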