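import Groth.Agent.DPLat.Basic

/-! Counting conic classes. -/

set_option autoImplicit false

namespace Groth.Agent.DPLat

/-- number of conics of given degree for `δ = 8` -/
def cnt8 (a : ℤ) : ℕ := (enum 8 (3 * a + (-2)) (a * a - 0)).length

theorem cnt8_0 : cnt8 (-1) = 0 := by decide +kernel
theorem cnt8_1 : cnt8 (0) = 0 := by decide +kernel
theorem cnt8_2 : cnt8 (1) = 8 := by decide +kernel
theorem cnt8_3 : cnt8 (2) = 70 := by decide +kernel
theorem cnt8_4 : cnt8 (3) = 168 := by decide +kernel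
theorem cnt8_5 : cnt8 (4) = 288 := by decide +kernel
theorem cnt8_6 : cnt8 (5) = 336 := by decide +kernel
theorem cnt8_7 : cnt8 (6) = 420 := by decide +kernel
theorem cnt8_8 : cnt8 (7) = 336 := by decide +kernel
theorem cnt8_9 : cnt8 (8) = 288 := by decide +kernel
theorem cnt8_10 : cnt8 (9) = 168 := by decide +kernel
theorem cnt8_11 : cnt8 (10) = 70 := by decide +kernel
theorem cnt8_12 : cnt8 (11) = 8 := by decide +kernel

theorem length_classes_eight : (classes 8 0 (-2)).length = 2160 := by
  have h : (classes 8 0 (-2)).length = (degrees.map cnt8).sum := by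
    simp [classes, List.length_flatMap]
    exact congrArg _ (List.map_congr_left fun a _ => by simp [cnt8])
  rw [h, show degrees = [-1, 0, 1, 2, 3, 4, 5, 6, 7, 8, 9, 10, 11] from by decide +kernel]
  simp [cnt8_0, cnt8_1, cnt8_2, cnt8_3, cnt8_4, cnt8_5, cnt8_6, cnt8_7, cnt8_8, cnt8_9, cnt8_10, cnt8_11, cnt8_12]

theorem length_classes_small : (classes 7 0 (-2)).length = 126 ∧ (classes 6 0 (-2)).length = 27 ∧
    (classes 5 0 (-2)).length = 10 ∧ (classes 4 0 (-2)).length = 5 ∧ (classes 3 0 (-2)).length = 3 ∧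
    (classes 2 0 (-2)).length = 2 := by
  refine ⟨?_, ?_, ?_, ?_, ?_, ?_⟩ <;> decide +kernel

end Groth.Agent.DPLat
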