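import Groth.Agent.DPLat.Basic

/-! Orbits of exceptional classes and of triples of them. -/

set_option autoImplicit false

namespace Groth.Agent.DPLat

open W4c3severiratdp

/-- the standard exceptional class -/
def l0 : List ℤ := [0, -1, 0, 0, 0, 0, 0, 0, 0]

/-- normal forms relative to the standard class, by intersection number -/
def excReps : List (ℤ × List ℤ) :=
  [(-1, [0, -1, 0, 0, 0, 0, 0, 0, 0]), (0, [0, 0, -1, 0, 0, 0, 0, 0, 0]), (1, [1, 1, 1, 0, 0, 0, 0, 0, 0]),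
   (2, [3, 2, 0, 1, 1, 1, 1, 1, 1]), (3, [6, 3, 2, 2, 2, 2, 2, 2, 2])]

/-- the standard class is reached -/
def checkExcStd : Bool :=
  rootsOK 8 (simpleRootsRev 8) && rootsOK 8 (permRoots 8) &&
    (classesD 8 0 (-1) (-1)).all fun v => red (simpleRootsRev 8) 500 [v] == [l0]

/-- normal forms relative to the standard class -/
def checkExcRel : Bool :=
  (classesD 8 1 (-1) (-1)).all fun v =>
    let w := red (perp (simpleRootsRev 8) [l0]) 500 [v]
    excReps.any fun p => (p.1 == bil l0 v) && (w == [p.2] || red (perp (permRoots 8) [l0]) 500 w == [p.2])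

theorem checkExcStd_eq : checkExcStd = true := by decide +kernel

theorem checkExcRel_eq : checkExcRel = true := by decide +kernel

theorem excReps_functional :
    (excReps.all fun p => excReps.all fun q => p.1 != q.1 || p.2 == q.2) = true := by decide +kernel

/-- reduce the head, then the second entry keeping the head fixed -/
def norm3 (l : List (List ℤ)) : List (List ℤ) :=
  match red (perp (simpleRootsRev 8) [l0]) 500 l with
  | [] => []
  | w :: rest => w :: red (perp (simpleRootsRev 8) [l0, w]) 500 rest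

/-- the representatives of triples -/
def tripleReps : List (List (List ℤ)) :=
  [[[0, -1, 0, 0, 0, 0, 0, 0, 0], [0, -1, 0, 0, 0, 0, 0, 0, 0], [6, 3, 2, 2, 2, 2, 2, 2, 2]],
   [[0, -1, 0, 0, 0, 0, 0, 0, 0], [0, 0, -1, 0, 0, 0, 0, 0, 0], [6, 2, 3, 2, 2, 2, 2, 2, 2]],
   [[0, -1, 0, 0, 0, 0, 0, 0, 0], [1, 1, 0, 0, 0, 0, 0, 0, 1], [5, 1, 2, 2, 2, 2, 2, 2, 1]],
   [[0, 0, -1, 0, 0, 0, 0, 0, 0], [1, 0, 1, 0, 0, 0, 0, 0, 1], [5, 1, 2, 2, 2, 2, 2, 2, 1]]]

/-- the required sum of a triple -/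
def tripleSum : List ℤ := [6, 1, 2, 2, 2, 2, 2, 2, 2]

/-- all orders of three things -/
def orders : List (List ℕ) := [[0, 1, 2], [0, 2, 1], [1, 0, 2], [1, 2, 0], [2, 0, 1], [2, 1, 0]]

/-- finite check for triples -/
def checkTriples : Bool :=
  excReps.all fun p => (classesD 8 2 (-1) (-1)).all fun b =>
    let c := List.zipWith (fun x y => x - y) (List.zipWith (fun x y => x - y) tripleSum p.2) b
    !(bil c c == -1 && bil (vec (canon 8)) c == -1) ||
      orders.any fun o => tripleReps.contains (norm3 (o.map fun i => [p.2, b, c].getD i []))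

theorem checkTriples_eq : checkTriples = true := by decide +kernel

theorem constAfter_of_drop {x : DP 8} {m : ℕ} {a : ℤ} {l : List ℤ} (h : vec x = l)
    (hl : ((List.range 8).all fun i => i < m || l.getD (i + 1) 0 == a) = true) : ConstAfter m x := by
  intro i j hi hj
  have key : ∀ i : Fin 8, m ≤ i.1 → x i.succ = a := fun i hi => by
    have h1 := List.all_eq_true.1 hl i.1 (List.mem_range.2 i.2)
    simp only [Bool.or_eq_true, decide_eq_true_eq, beq_iff_eq, show ¬ i.1 < m by omega, false_or] at h1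
    rw [← h1, ← h, vec, List.getD_eq_getElem?_getD, List.getElem?_ofFn, dif_pos (by omega)]
    rfl
  rw [key i hi, key j hj]

theorem excReps_const :
    (excReps.all fun p => (List.range 8).all fun i => i < 2 || p.2.getD (i + 1) 0 == p.2.getD 8 0) = true := by
  decide +kernel

theorem exists_exc_std {v : DP 8} (hv : IsExc v) : ∃ g : DP 8 ≃ₗ[ℤ] DP 8, IsWeyl g ∧ vec (g v) = l0 := by
  have h := checkExcStd_eq
  simp only [checkExcStd, Bool.and_eq_true, List.all_eq_true, beq_iff_eq] at h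
  obtain ⟨⟨hS, -⟩, hred⟩ := h
  obtain ⟨g₁, hg₁, -, hdesc⟩ := exists_sort 0 v
  have hv₁ := isExc_map hg₁ hv
  obtain ⟨g₂, hg₂, -, heq⟩ := red_one hS [] 500 (g₁ v)
  rw [List.map_nil, perp_nil, hred _ (vec_mem_classesD le_rfl hv₁.1 hv₁.2 (bound_exc le_rfl hv₁) hdesc)] at heq
  exact ⟨g₁.trans g₂, isWeyl_trans hg₁ hg₂, (List.cons.inj heq).1.symm⟩

theorem exists_exc_rel {L v : DP 8} (hL : vec L = l0) (hv : IsExc v) :
    ∃ g : DP 8 ≃ₗ[ℤ] DP 8, IsWeyl g ∧ g L = L ∧ ∃ p ∈ excReps, p.1 = form L v ∧ vec (g v) = p.2 := by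
  have h0 := checkExcStd_eq
  simp only [checkExcStd, Bool.and_eq_true] at h0
  obtain ⟨⟨hS, hP⟩, -⟩ := h0
  obtain ⟨g₁, hg₁, hfix₁, hdesc⟩ := exists_sort 1 v
  have hcL : ConstAfter 1 L := constAfter_of_drop (a := 0) hL (by decide +kernel)
  have hv₁ := isExc_map hg₁ hv
  obtain ⟨g₂, hg₂, hfix₂, heq₂⟩ := red_one hS [L] 500 (g₁ v)
  obtain ⟨g₃, hg₃, hfix₃, heq₃⟩ := red_one hP [L] 500 (g₂ (g₁ v))
  rw [List.map_singleton, hL] at heq₂ heq₃
  have h := checkExcRel_eq
  simp only [checkExcRel, List.all_eq_true, List.any_eq_true, Bool.and_eq_true, Bool.or_eq_true, beq_iff_eq] at h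
  obtain ⟨p, hp, hk, hw⟩ := h _ (vec_mem_classesD le_rfl hv₁.1 hv₁.2 (bound_exc le_rfl hv₁) hdesc)
  have e : p.1 = form L v := by
    rw [hk, ← hL, bil_vec]
    conv_lhs => rw [← hfix₁ L hcL]
    exact hg₁.1 L v
  have f₁ := hfix₁ L hcL
  have f₂ := hfix₂ L (List.mem_singleton_self L)
  have f₃ := hfix₃ L (List.mem_singleton_self L)
  rcases hw with hw | hw
  · rw [heq₂] at hw
    exact ⟨g₁.trans g₂, isWeyl_trans hg₁ hg₂, by simp [f₁, f₂], p, hp, e, (List.cons.inj hw).1⟩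
  · rw [heq₂, heq₃] at hw
    exact ⟨(g₁.trans g₂).trans g₃, isWeyl_trans (isWeyl_trans hg₁ hg₂) hg₃, by simp [f₁, f₂, f₃], p, hp, e, (List.cons.inj hw).1⟩

theorem norm3_spec {L : DP 8} (hL : vec L = l0) (vs : List (DP 8)) :
    ∃ g : DP 8 ≃ₗ[ℤ] DP 8, IsWeyl g ∧ g L = L ∧ norm3 (vs.map vec) = (vs.map g).map vec := by
  have h0 := checkExcStd_eq
  simp only [checkExcStd, Bool.and_eq_true] at h0
  obtain ⟨⟨hS, -⟩, -⟩ := h0
  obtain ⟨g₁, hg₁, hfix₁, heq₁⟩ := red_spec hS [L] 500 vs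
  rw [List.map_singleton, hL] at heq₁
  have f₁ := hfix₁ L (List.mem_singleton_self L)
  cases vs with
  | nil => exact ⟨g₁, hg₁, f₁, by rw [norm3, heq₁]; rfl⟩
  | cons v vs =>
    simp only [List.map_cons] at heq₁ ⊢
    rw [norm3, heq₁]
    dsimp only
    obtain ⟨g₂, hg₂, hfix₂, heq₂⟩ := red_spec hS [L, g₁ v] 500 (vs.map g₁)
    simp only [List.map_cons, List.map_nil, hL] at heq₂
    refine ⟨g₁.trans g₂, isWeyl_trans hg₁ hg₂, by simp [f₁, hfix₂ L (by simp)], ?_⟩
    rw [heq₂, LinearEquiv.trans_apply, hfix₂ (g₁ v) (by simp)]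
    simp

theorem triples {L : DP 8} (hL : vec L = l0) (t : Fin 3 → DP 8) (ht : ∀ i, IsExc (t i))
    (hsum : t 0 + t 1 + t 2 = L - 2 • canon 8) :
    ∃ g : DP 8 ≃ₗ[ℤ] DP 8, IsWeyl g ∧ g L = L ∧ ∃ σ : Equiv.Perm (Fin 3), ∃ l ∈ tripleReps,
      (List.ofFn fun i => vec (g (t (σ i)))) = l := by
  obtain ⟨g₁, hg₁, f₁, p, hp, -, hp₁⟩ := exists_exc_rel hL (ht 0)
  obtain ⟨g₂, hg₂, hfix₂, hdesc⟩ := exists_sort 2 (g₁ (t 1))
  have hcL : ConstAfter 2 L := constAfter_of_drop (a := 0) hL (by decide +kernel)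
  have hca : ConstAfter 2 (g₁ (t 0)) := constAfter_of_drop hp₁ (List.all_eq_true.1 excReps_const p hp)
  let g := g₁.trans g₂
  have hg : IsWeyl g := isWeyl_trans hg₁ hg₂
  have fg : g L = L := by simp [g, f₁, hfix₂ L hcL]
  have ea : vec (g (t 0)) = p.2 := by simp [g, hfix₂ _ hca, hp₁]
  have hT : vec (L - 2 • canon 8) = tripleSum := by
    have : vec (L - 2 • canon 8) = List.zipWith (fun x y => x - 2 * y) (vec L) (vec (canon 8)) := by
      refine List.ext_getElem (by simp [vec]) fun i _ _ => ?_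
      simp [vec]
    rw [this, hL]
    decide +kernel
  have hsum' : g (t 2) = (L - 2 • canon 8) - g (t 0) - g (t 1) := by
    have h := congrArg g hsum
    rw [map_add, map_add, map_sub, map_nsmul, fg, hg.2] at h
    rw [← h]; abel
  have hc : vec (g (t 2)) = List.zipWith (fun x y => x - y) (List.zipWith (fun x y => x - y) tripleSum p.2) (vec (g (t 1))) := by
    rw [← hT, ← ea, hsum']
    refine List.ext_getElem (by simp [vec]) fun i _ _ => ?_
    simp only [vec, List.getElem_zipWith, List.getElem_ofFn, Pi.sub_apply]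
  have h := checkTriples_eq
  simp only [checkTriples, List.all_eq_true] at h
  have hb := isExc_map hg (ht 1)
  have h' := h p hp (vec (g (t 1))) (vec_mem_classesD le_rfl hb.1 hb.2 (bound_exc le_rfl hb) hdesc)
  have hc' := isExc_map hg (ht 2)
  rw [← hc, bil_vec, bil_vec, hc'.1, hc'.2, ← ea] at h'
  simp only [beq_self_eq_true, Bool.and_self, Bool.not_true, Bool.false_or, List.any_eq_true] at h'
  obtain ⟨o, ho, hmem⟩ := h'
  obtain ⟨σ, rfl⟩ : ∃ σ : Equiv.Perm (Fin 3), o = [(σ 0).1, (σ 1).1, (σ 2).1] := by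
    simp only [orders, List.mem_cons, List.not_mem_nil, or_false] at ho
    rcases ho with rfl | rfl | rfl | rfl | rfl | rfl
    · exact ⟨1, rfl⟩
    · exact ⟨Equiv.swap 1 2, by decide⟩
    · exact ⟨Equiv.swap 0 1, by decide⟩
    · exact ⟨(Equiv.swap 0 1).trans (Equiv.swap 0 2), by decide⟩
    · exact ⟨(Equiv.swap 0 2).trans (Equiv.swap 0 1), by decide⟩
    · exact ⟨Equiv.swap 0 2, by decide⟩
  have hget : ∀ i : Fin 3, [vec (g (t 0)), vec (g (t 1)), vec (g (t 2))].getD i.1 [] = vec (g (t i)) := by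
    intro i; fin_cases i <;> rfl
  obtain ⟨g₃, hg₃, f₃, heq⟩ := norm3_spec hL [g (t (σ 0)), g (t (σ 1)), g (t (σ 2))]
  refine ⟨g.trans g₃, isWeyl_trans hg hg₃, by simp [fg, f₃], σ, _, List.contains_iff_mem.1 hmem, ?_⟩
  simp only [List.map_cons, List.map_nil, hget]
  rw [show [vec (g (t (σ 0))), vec (g (t (σ 1))), vec (g (t (σ 2)))] =
    [g (t (σ 0)), g (t (σ 1)), g (t (σ 2))].map vec from rfl, heq]
  simp [List.ofFn_succ]

end Groth.Agent.DPLat
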