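import Groth.Agent.DPLat.Exc

/-! The four orbits of triples. -/

set_option autoImplicit false

namespace Groth.Agent.DPLat

open W4c3severiratdp

/-- list to vector -/
def ofL (l : List ℤ) : DP 8 := fun i => l.getD i.1 0

theorem ofL_vec (x : DP 8) : ofL (vec x) = x := by
  funext i
  rw [ofL, vec, List.getD_eq_getElem?_getD, List.getElem?_eq_getElem (by simp), Option.getD_some, List.getElem_ofFn]

/-- the representatives as vectors -/
def tr (j : Fin 4) (i : Fin 3) : DP 8 := ofL ((tripleReps.getD j.1 []).getD i.1 [])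

theorem tr_exc : ∀ j i, form (tr j i) (tr j i) = -1 ∧ form (canon 8) (tr j i) = -1 := by decide +kernel

theorem tr_sum : ∀ j i, (tr j 0 + tr j 1 + tr j 2) i = (ofL l0 i) - 2 * canon 8 i := by decide +kernel

theorem tr_distinct : ∀ j j' : Fin 4, ∀ σ : Equiv.Perm (Fin 3),
    (∀ i, form (ofL l0) (tr j (σ i)) = form (ofL l0) (tr j' i)) → j = j' := by decide +kernel

theorem triple_orbits {L : DP 8} (hL : IsExc L) :
    ∃ r : Fin 4 → (Fin 3 → DP 8),
      (∀ j, (∀ i, IsExc (r j i)) ∧ r j 0 + r j 1 + r j 2 = L - 2 • canon 8) ∧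
      (∀ j j', (∃ g : DP 8 ≃ₗ[ℤ] DP 8, IsWeyl g ∧ g L = L ∧ ∃ σ : Equiv.Perm (Fin 3), ∀ i, g (r j (σ i)) = r j' i) → j = j') ∧
      ∀ t : Fin 3 → DP 8, (∀ i, IsExc (t i)) → t 0 + t 1 + t 2 = L - 2 • canon 8 →
        ∃ j, ∃ g : DP 8 ≃ₗ[ℤ] DP 8, IsWeyl g ∧ g L = L ∧ ∃ σ : Equiv.Perm (Fin 3), ∀ i, g (t (σ i)) = r j i := by
  obtain ⟨g₀, hg₀, h₀⟩ := exists_exc_std hL
  have e₀ : ofL l0 = g₀ L := by rw [← h₀, ofL_vec]
  have hi := isWeyl_symm hg₀
  refine ⟨fun j i => g₀.symm (tr j i), fun j => ⟨fun i => isExc_map hi (tr_exc j i), ?_⟩, ?_, ?_⟩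
  · have h1 : tr j 0 + tr j 1 + tr j 2 = g₀ L - 2 • canon 8 := by
      funext i
      rw [tr_sum j i, e₀]
      simp
    rw [← map_add, ← map_add, h1, map_sub, map_nsmul, LinearEquiv.symm_apply_apply, hi.2]
  · rintro j j' ⟨g, hg, fg, σ, hσ⟩
    refine tr_distinct j j' σ fun i => ?_
    have h1 := congrArg (form L) (hσ i)
    conv_lhs at h1 => rw [← fg, hg.1]
    rw [← hg₀.1, ← hg₀.1 L (g₀.symm (tr j' i)), LinearEquiv.apply_symm_apply, LinearEquiv.apply_symm_apply, ← e₀] at h1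
    exact h1
  · intro t ht hsum
    have hsum' : g₀ (t 0) + g₀ (t 1) + g₀ (t 2) = g₀ L - 2 • canon 8 := by
      rw [← map_add, ← map_add, hsum, map_sub, map_nsmul, hg₀.2]
    obtain ⟨g, hg, fg, σ, l, hl, he⟩ := triples h₀ (fun i => g₀ (t i)) (fun i => isExc_map hg₀ (ht i)) hsum'
    obtain ⟨j, hj, rfl⟩ := List.getElem_of_mem hl
    refine ⟨⟨j, hj⟩, (g₀.trans g).trans g₀.symm, isWeyl_trans (isWeyl_trans hg₀ hg) hi,
      by simp [fg], σ, fun i => ?_⟩
    simp only [LinearEquiv.trans_apply]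
    congr 1
    rw [← ofL_vec (g _), tr]
    show _ = ofL ((tripleReps.getD j []).getD i.1 [])
    rw [List.getD_eq_getElem?_getD (l := tripleReps), List.getElem?_eq_getElem hj, Option.getD_some, ← he]
    rw [List.getD_eq_getElem?_getD, List.getElem?_eq_getElem (by simp), Option.getD_some, List.getElem_ofFn]

end Groth.Agent.DPLat
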